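import Mathlib

/-! Zeros of nondegenerate quadratic forms over a finite field. -/

set_option autoImplicit false
set_option linter.unusedSectionVars false

universe u

noncomputable section

namespace Groth.Agent.QuadCountLib

open QuadraticMap

variable {k : Type u} [Field k]

/-- No nonzero zero of the form is orthogonal to the whole space. -/
def Nondeg {V : Type u} [AddCommGroup V] [Module k V] (Q : QuadraticForm k V) : Prop :=
  ∀ v : V, v ≠ 0 → Q v = 0 → ∃ w, polar Q v w ≠ 0

/-- `q · #(zeros) − #(vectors)`. -/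
def defect {V : Type u} [AddCommGroup V] [Module k V] (Q : QuadraticForm k V) : ℤ :=
  (Nat.card k : ℤ) * Nat.card {v : V // Q v = 0} - (Nat.card k : ℤ) ^ Module.finrank k V

/-- A totally isotropic subspace of dimension `h`. -/
def HasIso {V : Type u} [AddCommGroup V] [Module k V] (Q : QuadraticForm k V) (h : ℕ) : Prop :=
  ∃ W : Submodule k V, Module.finrank k W = h ∧ ∀ w ∈ W, Q w = 0

section Split

variable {V : Type u} [AddCommGroup V] [Module k V] (Q : QuadraticForm k V)

theorem exists_pair (hQ : Nondeg Q) {v : V} (hv : v ≠ 0) (h0 : Q v = 0) :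
    ∃ w, polar Q v w = 1 ∧ Q w = 0 := by
  obtain ⟨w₀, hw₀⟩ := hQ v hv h0
  obtain ⟨w₁, h1⟩ : ∃ w₁, polar Q v w₁ = 1 := ⟨(polar Q v w₀)⁻¹ • w₀, by
    rw [polar_smul_right, smul_eq_mul, inv_mul_cancel₀ hw₀]⟩
  refine ⟨w₁ + -(Q w₁) • v, ?_, ?_⟩
  · rw [polar_add_right, polar_smul_right, polar_self, h0, h1]
    simp
  · rw [QuadraticMap.map_add Q, QuadraticMap.map_smul, h0, polar_smul_right, polar_comm, h1]
    simp

variable (v w : V)

/-- The orthogonal of a hyperbolic pair. -/
def orth : Submodule k V :=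
  LinearMap.ker (Q.polarBilin v) ⊓ LinearMap.ker (Q.polarBilin w)

theorem mem_orth {x : V} : x ∈ orth Q v w ↔ polar Q v x = 0 ∧ polar Q w x = 0 := Iff.rfl

variable {v w} (h0 : Q v = 0) (hw0 : Q w = 0) (h1 : polar Q v w = 1)
include h0 hw0 h1

theorem proj_mem (x : V) : x - polar Q w x • v - polar Q v x • w ∈ orth Q v w := by
  have h1' : polar Q w v = 1 := by rw [polar_comm]; exact h1
  rw [mem_orth, polar_sub_right, polar_sub_right, polar_sub_right, polar_sub_right, polar_smul_right,
    polar_smul_right, polar_smul_right, polar_smul_right, polar_self, polar_self, h0, hw0, h1, h1']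
  simp

/-- Splitting off a hyperbolic plane. -/
def splitEquiv : (k × k × orth Q v w) ≃ₗ[k] V where
  toFun p := p.1 • v + p.2.1 • w + p.2.2.1
  map_add' p p' := by simp [add_smul]; abel
  map_smul' c p := by simp [smul_add, smul_smul]
  invFun x := (polar Q w x, polar Q v x, ⟨_, proj_mem Q h0 hw0 h1 x⟩)
  left_inv p := by
    obtain ⟨a, b, x, hx⟩ := p
    rw [mem_orth] at hx
    have h1' : polar Q w v = 1 := by rw [polar_comm]; exact h1
    have e1 : polar Q w (a • v + b • w + x) = a := by
      rw [polar_add_right, polar_add_right, polar_smul_right, polar_smul_right, polar_self, hw0, h1', hx.2]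
      simp
    have e2 : polar Q v (a • v + b • w + x) = b := by
      rw [polar_add_right, polar_add_right, polar_smul_right, polar_smul_right, polar_self, h0, h1, hx.1]
      simp
    simp only [e1, e2]
    refine Prod.ext rfl (Prod.ext rfl (Subtype.ext ?_))
    simp only
    abel
  right_inv x := by simp only; abel

theorem apply_split (p : k × k × orth Q v w) :
    Q (splitEquiv Q h0 hw0 h1 p) = p.1 * p.2.1 + Q p.2.2.1 := by
  obtain ⟨a, b, x, hx⟩ := p
  rw [mem_orth] at hx
  show Q (a • v + b • w + x) = _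
  rw [QuadraticMap.map_add Q, QuadraticMap.map_add Q, QuadraticMap.map_smul, QuadraticMap.map_smul, h0, hw0,
    polar_smul_left, polar_smul_right, polar_add_left, polar_smul_left, polar_smul_left, h1, hx.1, hx.2]
  simp [mul_comm]

theorem nondeg_orth (hQ : Nondeg Q) : Nondeg (Q.comp (orth Q v w).subtype) := by
  rintro ⟨x, hx⟩ hne hQx
  obtain ⟨y, hy⟩ := hQ x (fun h => hne (Subtype.ext h)) hQx
  refine ⟨⟨_, proj_mem Q h0 hw0 h1 y⟩, ?_⟩
  rw [mem_orth] at hx
  show polar Q x (y - polar Q w y • v - polar Q v y • w) ≠ 0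
  rw [polar_sub_right, polar_sub_right, polar_smul_right, polar_smul_right, polar_comm _ x v,
    polar_comm _ x w, hx.1, hx.2]
  simpa using hy

theorem finrank_split [FiniteDimensional k V] :
    Module.finrank k V = Module.finrank k (orth Q v w) + 2 := by
  rw [← (splitEquiv Q h0 hw0 h1).finrank_eq, Module.finrank_prod, Module.finrank_prod, Module.finrank_self]
  omega

theorem card_split [Finite k] [FiniteDimensional k V] :
    Nat.card {x : V // Q x = 0} = Nat.card k * Nat.card {x : orth Q v w // Q.comp (orth Q v w).subtype x = 0} +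
      (Nat.card k - 1) * Nat.card k ^ Module.finrank k (orth Q v w) := by
  classical
  haveI : Finite V := Module.finite_of_finite k
  haveI : Finite (orth Q v w) := Module.finite_of_finite k
  let T := {x : orth Q v w // Q.comp (orth Q v w).subtype x = 0}
  let f : (k × T) ⊕ ({b : k // b ≠ 0} × orth Q v w) → {p : k × k × orth Q v w // p.1 * p.2.1 + Q p.2.2.1 = 0} :=
    Sum.elim (fun s => ⟨(s.1, 0, s.2.1), by
        have h : Q s.2.1.1 = 0 := s.2.2
        simp [h]⟩)
      (fun s => ⟨(-(Q s.2.1) / s.1.1, s.1.1, s.2), by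
        show -(Q s.2.1) / s.1.1 * s.1.1 + Q s.2.1 = 0
        rw [div_mul_cancel₀ _ s.1.2]; ring⟩)
  have hf : Function.Bijective f := by
    constructor
    · rintro (⟨a, x⟩ | ⟨b, x⟩) (⟨a', x'⟩ | ⟨b', x'⟩) h
      · simp only [f, Sum.elim_inl, Subtype.mk.injEq, Prod.mk.injEq, true_and] at h
        rw [h.1, Subtype.ext h.2]
      · simp only [f, Sum.elim_inl, Sum.elim_inr, Subtype.mk.injEq, Prod.mk.injEq] at h
        exact absurd h.2.1.symm b'.2
      · simp only [f, Sum.elim_inl, Sum.elim_inr, Subtype.mk.injEq, Prod.mk.injEq] at h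
        exact absurd h.2.1 b.2
      · simp only [f, Sum.elim_inr, Subtype.mk.injEq, Prod.mk.injEq] at h
        rw [Subtype.ext h.2.1, h.2.2]
    · rintro ⟨⟨a, b, x⟩, h⟩
      replace h : a * b + Q x.1 = 0 := h
      by_cases hb : b = 0
      · subst hb
        exact ⟨Sum.inl (a, ⟨x, by simpa using h⟩), rfl⟩
      · refine ⟨Sum.inr (⟨b, hb⟩, x), Subtype.ext (Prod.ext ?_ rfl)⟩
        show -(Q x.1) / b = a
        rw [div_eq_iff hb]
        linear_combination -h
  have e : {p : k × k × orth Q v w // p.1 * p.2.1 + Q p.2.2.1 = 0} ≃ {x : V // Q x = 0} :=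
    (splitEquiv Q h0 hw0 h1).toEquiv.subtypeEquiv fun p => by
      show _ ↔ Q (splitEquiv Q h0 hw0 h1 p) = 0
      rw [apply_split]
  rw [← Nat.card_congr e, ← Nat.card_congr (Equiv.ofBijective f hf), Nat.card_sum, Nat.card_prod, Nat.card_prod,
    ← Module.natCard_eq_pow_finrank (K := k) (V := orth Q v w)]
  congr 2
  haveI := Fintype.ofFinite k
  rw [Nat.card_eq_fintype_card, Nat.card_eq_fintype_card, Fintype.card_subtype_compl, Fintype.card_subtype_eq]

theorem defect_split [Finite k] [FiniteDimensional k V] :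
    defect Q = (Nat.card k : ℤ) * defect (Q.comp (orth Q v w).subtype) := by
  have hq : 1 ≤ Nat.card k := Nat.card_pos
  rw [defect, defect, card_split Q h0 hw0 h1, finrank_split Q h0 hw0 h1]
  push_cast [Nat.cast_sub hq]
  ring

theorem hasIso_of_orth {h : ℕ} [FiniteDimensional k V] (hW : HasIso (Q.comp (orth Q v w).subtype) h) :
    HasIso Q (h + 1) := by
  obtain ⟨W, hW, hW0⟩ := hW
  let e := (splitEquiv Q h0 hw0 h1)
  let j : k × W →ₗ[k] V := e.toLinearMap ∘ₗ
    (LinearMap.prodMap (LinearMap.id : k →ₗ[k] k) ((LinearMap.inr k k (orth Q v w)) ∘ₗ W.subtype))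
  have hj : Function.Injective j := by
    intro x y h
    have h' := e.injective h
    simp only [LinearMap.prodMap_apply, LinearMap.id_coe, id_eq, LinearMap.coe_comp, Function.comp_apply,
      LinearMap.inr_apply, Prod.mk.injEq, true_and] at h'
    exact Prod.ext h'.1 (Subtype.ext h'.2)
  refine ⟨LinearMap.range j, ?_, ?_⟩
  · rw [LinearMap.finrank_range_of_inj hj, Module.finrank_prod, Module.finrank_self, hW]
    omega
  · rintro _ ⟨⟨a, x⟩, rfl⟩
    show Q (e (a, 0, x.1)) = 0
    rw [apply_split]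
    have := hW0 x.1 x.2
    simpa using this

theorem hasIso_orth {h : ℕ} [FiniteDimensional k V] {W : Submodule k V} (hW : Module.finrank k W = h + 1)
    (hW0 : ∀ x ∈ W, Q x = 0) (hvW : v ∈ W) : HasIso (Q.comp (orth Q v w).subtype) h := by
  let π : W →ₗ[k] orth Q v w :=
    ((LinearMap.snd k k (orth Q v w)).comp ((LinearMap.snd k k (k × orth Q v w)).comp
      (splitEquiv Q h0 hw0 h1).symm.toLinearMap)).comp W.subtype
  have hB : ∀ x ∈ W, polar Q v x = 0 := fun x hx => by
    show Q (v + x) - Q v - Q x = 0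
    rw [hW0 _ (W.add_mem hvW hx), h0, hW0 x hx]; ring
  have hker : LinearMap.ker π ≤ Submodule.span k {(⟨v, hvW⟩ : W)} := by
    rintro ⟨x, hx⟩ hπ
    have h2 : x - polar Q w x • v - polar Q v x • w = 0 := congrArg Subtype.val (LinearMap.mem_ker.1 hπ)
    rw [hB x hx, zero_smul, sub_zero, sub_eq_zero] at h2
    exact Submodule.mem_span_singleton.2 ⟨polar Q w x, Subtype.ext h2.symm⟩
  have hk : Module.finrank k (LinearMap.ker π) ≤ 1 :=
    (Submodule.finrank_mono hker).trans ((finrank_span_le_card _).trans (by simp))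
  have hr := π.finrank_range_add_finrank_ker
  obtain ⟨m, hm⟩ : ∃ m, h ≤ m ∧ Module.finrank k (LinearMap.range π) = m := ⟨_, by omega, rfl⟩
  obtain ⟨g, hg⟩ := exists_linearIndependent_of_le_finrank (R := k) (M := LinearMap.range π) (show h ≤ _ by omega)
  let U := Submodule.span k (Set.range fun i => ((g i : LinearMap.range π) : orth Q v w))
  have hU : U ≤ LinearMap.range π := Submodule.span_le.2 (by rintro _ ⟨i, rfl⟩; exact (g i).2)
  have hUc : Module.finrank k U = h := by
    exact (finrank_span_eq_card (hg.map' (LinearMap.range π).subtype (Submodule.ker_subtype _))).trans (Fintype.card_fin h)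
  refine ⟨U, hUc, fun y hy => ?_⟩
  obtain ⟨⟨x, hx⟩, rfl⟩ := hU hy
  show Q (x - polar Q w x • v - polar Q v x • w) = 0
  rw [hB x hx, zero_smul, sub_zero]
  exact hW0 _ (W.sub_mem hx (W.smul_mem _ hvW))

end Split

theorem exists_isotropic [Finite k] {V : Type u} [AddCommGroup V] [Module k V] [FiniteDimensional k V]
    (Q : QuadraticForm k V) (h3 : 3 ≤ Module.finrank k V) : ∃ v : V, v ≠ 0 ∧ Q v = 0 := by
  classical
  haveI := Fintype.ofFinite k
  obtain ⟨p, hp⟩ := CharP.exists k
  haveI : Fact p.Prime := ⟨CharP.char_is_prime k p⟩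
  let b := Module.finBasis k V
  obtain ⟨B, hB⟩ : ∃ B : LinearMap.BilinMap k V k, ∀ x, Q x = B x x := ⟨Q.toBilin b, fun x =>
    (congrArg (fun R : QuadraticForm k V => R x) (Q.toQuadraticMap_toBilin b)).symm⟩
  let f : MvPolynomial (Fin (Module.finrank k V)) k :=
    ∑ i, ∑ j, MvPolynomial.C (B (b i) (b j)) * MvPolynomial.X i * MvPolynomial.X j
  have hdeg : f.totalDegree < Fintype.card (Fin (Module.finrank k V)) := by
    have : f.IsHomogeneous 2 := MvPolynomial.IsHomogeneous.sum _ _ _ fun i _ =>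
      MvPolynomial.IsHomogeneous.sum _ _ _ fun j _ =>
        ((MvPolynomial.isHomogeneous_C _ _).mul (MvPolynomial.isHomogeneous_X _ i)).mul (MvPolynomial.isHomogeneous_X _ j)
    rw [Fintype.card_fin]
    exact lt_of_le_of_lt this.totalDegree_le (by omega)
  have hev : ∀ a, MvPolynomial.eval a f = Q (∑ i, a i • b i) := fun a => by
    rw [hB]
    simp [f, map_sum, Finset.sum_mul, Finset.mul_sum, mul_comm, mul_left_comm]
    rw [Finset.sum_comm]
    exact Finset.sum_congr rfl fun _ _ => Finset.sum_congr rfl fun _ _ => by ring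
  have hdvd := char_dvd_card_solutions p hdeg
  have h0 : MvPolynomial.eval 0 f = 0 := by rw [hev]; simp
  have hlt : 1 < Fintype.card {a // MvPolynomial.eval a f = 0} := by
    have hpos : 0 < Fintype.card {a // MvPolynomial.eval a f = 0} := Fintype.card_pos_iff.2 ⟨⟨0, h0⟩⟩
    exact lt_of_lt_of_le (Fact.out : p.Prime).one_lt (Nat.le_of_dvd hpos hdvd)
  obtain ⟨⟨a, ha⟩, hne⟩ := Fintype.exists_ne_of_one_lt_card hlt ⟨0, h0⟩
  refine ⟨b.equivFun.symm a, fun h => hne (Subtype.ext ?_), ?_⟩
  · exact (b.equivFun.symm.map_eq_zero_iff).1 h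
  · rw [b.equivFun_symm_apply, ← hev]; exact ha

theorem card_zeros_of_anisotropic [Finite k] {V : Type u} [AddCommGroup V] [Module k V]
    (Q : QuadraticForm k V) (h : ∀ v, v ≠ 0 → Q v ≠ 0) : Nat.card {v : V // Q v = 0} = 1 := by
  rw [Nat.card_eq_one_iff_unique]
  exact ⟨⟨fun a b => Subtype.ext ((not_not.1 fun hne => h _ hne a.2).trans (not_not.1 fun hne => h _ hne b.2).symm)⟩,
    ⟨⟨0, by simp⟩⟩⟩

/-- The number of zeros. -/
theorem main [Finite k] (m : ℕ) : ∀ {V : Type u} [AddCommGroup V] [Module k V] [FiniteDimensional k V]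
    (Q : QuadraticForm k V), Nondeg Q → Module.finrank k V = m →
    (Odd m → defect Q = 0) ∧ (Even m → ∃ ε : ℤ, (ε = 1 ∨ ε = -1) ∧
      defect Q = ε * (Nat.card k : ℤ) ^ (m / 2) * ((Nat.card k : ℤ) - 1) ∧ (ε = 1 ↔ HasIso Q (m / 2))) := by
  induction m using Nat.strong_induction_on with
  | _ m ih =>
    intro V _ _ _ Q hQ hm
    have hq : (2 : ℤ) ≤ (Nat.card k : ℤ) := by exact_mod_cast Finite.one_lt_card
    by_cases hex : ∃ v : V, v ≠ 0 ∧ Q v = 0
    · obtain ⟨v, hv, hv0⟩ := hex
      obtain ⟨w, h1, hw0⟩ := exists_pair Q hQ hv hv0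
      have hdim := finrank_split Q hv0 hw0 h1
      obtain ⟨m', rfl⟩ : ∃ m', m = m' + 2 := ⟨Module.finrank k (orth Q v w), by omega⟩
      obtain ⟨hodd, heven⟩ := ih m' (by omega) _ (nondeg_orth Q hv0 hw0 h1 hQ) (by omega)
      refine ⟨fun ho => ?_, fun he => ?_⟩
      · rw [defect_split Q hv0 hw0 h1, hodd (by simpa [parity_simps] using ho), mul_zero]
      · obtain ⟨ε, hε, hd, hiff⟩ := heven (by simpa [parity_simps] using he)
        have hh : (m' + 2) / 2 = m' / 2 + 1 := by omega
        rw [hh]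
        have hd' : defect Q = ε * (Nat.card k : ℤ) ^ (m' / 2 + 1) * ((Nat.card k : ℤ) - 1) := by
          rw [defect_split Q hv0 hw0 h1, hd]; ring
        refine ⟨ε, hε, hd', fun h => hasIso_of_orth Q hv0 hw0 h1 (hiff.1 h), fun hW => ?_⟩
        obtain ⟨W, hW, hW0⟩ := hW
        obtain ⟨v', hv'W, hv'⟩ := W.ne_bot_iff.1 (fun h => by
          rw [h, finrank_bot] at hW; omega)
        obtain ⟨w', h1', hw0'⟩ := exists_pair Q hQ hv' (hW0 v' hv'W)
        have hdim' := finrank_split Q (hW0 v' hv'W) hw0' h1'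
        obtain ⟨ε', -, hdw, hiff'⟩ := (ih m' (by omega) _ (nondeg_orth Q (hW0 v' hv'W) hw0' h1' hQ) (by omega)).2
          (by simpa [parity_simps] using he)
        have hε' : ε' = 1 := hiff'.2 (hasIso_orth Q (hW0 v' hv'W) hw0' h1' hW hW0 hv'W)
        have hd2 : defect Q = ε' * (Nat.card k : ℤ) ^ (m' / 2 + 1) * ((Nat.card k : ℤ) - 1) := by
          rw [defect_split Q (hW0 v' hv'W) hw0' h1', hdw]; ring
        rw [hd', mul_assoc, mul_assoc] at hd2
        have hne : (Nat.card k : ℤ) ^ (m' / 2 + 1) * ((Nat.card k : ℤ) - 1) ≠ 0 :=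
          mul_ne_zero (pow_ne_zero _ (by omega)) (by omega)
        rw [mul_right_cancel₀ hne hd2, hε']
    · push Not at hex
      have hZ : defect Q = (Nat.card k : ℤ) - (Nat.card k : ℤ) ^ m := by
        rw [defect, card_zeros_of_anisotropic Q hex, hm]; simp
      have hle : m ≤ 2 := by
        by_contra hlt
        obtain ⟨v, hv, hv0⟩ := exists_isotropic Q (by omega)
        exact hex v hv hv0
      interval_cases m
      · refine ⟨fun h => absurd h (by decide), fun _ => ⟨1, Or.inl rfl, by rw [hZ]; ring, iff_of_true rfl ?_⟩⟩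
        exact ⟨⊥, finrank_bot k V, fun w hw => by rw [(Submodule.mem_bot k).1 hw]; simp⟩
      · exact ⟨fun _ => by rw [hZ]; ring, fun h => absurd h (by decide)⟩
      · refine ⟨fun h => absurd h (by decide), fun _ => ⟨-1, Or.inr rfl, by rw [hZ]; ring, iff_of_false (by norm_num) ?_⟩⟩
        rintro ⟨W, hW, hW0⟩
        obtain ⟨v', hv'W, hv'⟩ := W.ne_bot_iff.1 (fun h => by
          rw [h, finrank_bot] at hW; omega)
        exact hex v' hv' (hW0 v' hv'W)

end Groth.Agent.QuadCountLib
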